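import Cfsg.Agent.Lib.J4Eleven90.Spec
import Cfsg.Agent.Lib.J4Fusion14.Rows
import Cfsg.Agent.Lib.J4Large96.Group
import Cfsg.Agent.Lib.J4Pentad77.LocalBase
import Cfsg.Agent.S5563
import Cfsg.Agent.S5564

/-!
# Centraliser orders of elements of prime order at most seven

The three rows not proved in this file are taken as hypotheses.
-/

set_option autoImplicit false

universe u

namespace Cfsg.Agent.Lib.J4Eleven90

open Subgroup Cfsg

variable (G : Type u) [Group G]

/-- The rows at the second class of involutions and at the primes five and seven. -/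
structure RowHyps (z : G) : Prop where
  two : ∀ t : G, orderOf t = 2 → ¬ IsConj z t → ∃ V K : Subgroup G,
    V ≤ centralizer ({t} : Set G) ∧ K ≤ centralizer ({t} : Set G) ∧
    centralizer ({t} : Set G) ≤ normalizer (V : Set G) ∧ IsElementaryAbelian 2 V ∧ Nat.card ↥V = 2 ^ 11 ∧
    K ⊓ V = ⊥ ∧ K ⊔ V = centralizer ({t} : Set G) ∧ Nonempty (↥K ≃* MulAut ↥Cfsg.Spor.M22)
  five : ∀ Q : Subgroup G, Nat.card ↥Q = 5 → Q ≤ centralizer ({z} : Set G) →
    ¬ (25 ∣ Nat.card G) ∧
    (∃ J : Subgroup G, IsInternalDirectProduct Q J (centralizer (Q : Set G)) ∧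
      ∃ (E : Subgroup ↥J) (_ : E.Normal), IsElementaryAbelian 2 E ∧ Nat.card ↥E = 8 ∧
        Nonempty (↥J ⧸ E ≃* Matrix.SpecialLinearGroup (Fin 3) (ZMod 2)) ∧ ∀ K : Subgroup ↥J, ¬ E.IsComplement' K)
  seven : ∀ S : Subgroup G, Nat.card ↥S = 7 → S ≤ centralizer ({z} : Set G) →
    ¬ (49 ∣ Nat.card G) ∧
    (∃ I : Subgroup G, IsInternalDirectProduct S I (centralizer (S : Set G)) ∧
      Nonempty (↥I ≃* Equiv.Perm (Fin 5)))

variable {G}

/-- The two conclusions wanted of a centraliser order. -/
def Harmless (n : ℕ) : Prop := ¬ 11 ^ 3 ∣ n ∧ ∀ q ∈ J4Large96.bigPrimes, ¬ q ∣ n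

theorem harmless_of_dvd {m n : ℕ} (hn : Harmless n) (h : m ∣ n) : Harmless m :=
  ⟨fun h' => hn.1 (h'.trans h), fun q hq h' => hn.2 q hq (h'.trans h)⟩

theorem card_centralizer_conj [Finite G] {x y : G} (h : IsConj x y) :
    Nat.card ↥(centralizer ({x} : Set G)) = Nat.card ↥(centralizer ({y} : Set G)) := by
  obtain ⟨g, rfl⟩ := isConj_iff.1 h
  have : centralizer ({g * x * g⁻¹} : Set G) =
      (centralizer ({x} : Set G)).map (MulAut.conj g).toMonoidHom := by
    ext w
    rw [mem_map_equiv, mem_centralizer_singleton_iff, mem_centralizer_singleton_iff,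
      ← (MulAut.conj g).injective.eq_iff (a := (MulAut.conj g).symm w * x)]
    simp [mul_assoc]
  rw [this]
  exact (card_map_of_injective (MulAut.conj g).injective).symm

/-- For a Sylow subgroup of prime order every element of that order is conjugate into it. -/
theorem exists_conj_zpowers [Finite G] {p : ℕ} [Fact p.Prime] (hp2 : ¬ p * p ∣ Nat.card G) {x y : G}
    (hx : orderOf x = p) (hy : orderOf y = p) :
    Nat.card ↥(centralizer ({x} : Set G)) = Nat.card ↥(centralizer ((zpowers y : Subgroup G) : Set G)) := by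
  have key : ∀ w : G, orderOf w = p → ∃ P : Sylow p G, (P : Subgroup G) = zpowers w := by
    intro w hw
    refine ⟨(IsPGroup.of_card (n := 1) (by rw [Nat.card_zpowers, hw, pow_one]) :
      IsPGroup p ↥(zpowers w)).toSylow fun hd => hp2 ?_, rfl⟩
    rw [← (zpowers w).card_mul_index, Nat.card_zpowers, hw]
    exact mul_dvd_mul_left p hd
  obtain ⟨Px, hPx⟩ := key x hx
  obtain ⟨Py, hPy⟩ := key y hy
  obtain ⟨g, hg⟩ := MulAction.exists_smul_eq G Px Py
  have hmem : g * x * g⁻¹ ∈ zpowers y := by
    rw [← hPy, ← hg]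
    exact ⟨x, by show x ∈ (Px : Subgroup G); rw [hPx]; exact mem_zpowers x, rfl⟩
  have hgen : zpowers (g * x * g⁻¹) = zpowers y :=
    eq_of_le_of_card_ge (zpowers_le.2 hmem) (by
      rw [Nat.card_zpowers, Nat.card_zpowers, hy, orderOf_injective (MulAut.conj g).toMonoidHom
        (MulAut.conj g).injective x |>.trans hx |> fun h => (show orderOf (g * x * g⁻¹) = p from h)])
  rw [card_centralizer_conj (isConj_iff.2 ⟨g, rfl⟩ : IsConj x (g * x * g⁻¹)), ← hgen]
  congr 2
  apply le_antisymm
  · intro w hw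
    refine mem_centralizer_iff.2 fun v hv => ?_
    obtain ⟨i, rfl⟩ := hv
    exact (Commute.zpow_left ((mem_centralizer_singleton_iff.1 hw).symm) i).eq
  · intro w hw
    exact mem_centralizer_singleton_iff.2 (mem_centralizer_iff.1 hw _ (mem_zpowers _)).symm

variable [Finite G] [IsSimpleGroup G] {z : G}

/-- The centralisers of elements of order two, three, five and seven. -/
theorem harmless_centralizer (hG : ¬ IsMulCommutative G) (hJ : IsOfJankoFourTypeAt z) (R : RowHyps G z)
    {x : G} {r : ℕ} (hr : r ∈ ([2, 3, 5, 7] : List ℕ)) (hx : orderOf x = r) :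
    Harmless (Nat.card ↥(centralizer ({x} : Set G))) := by
  obtain ⟨P, hW⟩ := hJ
  have hH : Nat.card ↥(centralizer ({z} : Set G)) = 2 ^ 13 * 3 * 887040 := J4Fusion14.card_cH hW
  have hHh : Harmless (2 ^ 13 * 3 * 887040) := by
    constructor
    · norm_num
    · decide +kernel
  simp only [List.mem_cons, List.not_mem_nil, or_false] at hr
  rcases hr with rfl | rfl | rfl | rfl
  · by_cases hc : IsConj z x
    · rw [← card_centralizer_conj hc, hH]
      exact hHh
    · obtain ⟨V, K, hV, hK, hnV, -, hV11, hd, hsup, ⟨e⟩⟩ := R.two x hx hc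
      obtain ⟨N, -, hNH, -, hNc, ⟨hNn, ⟨iso⟩⟩, -⟩ := hW.2.2.2.2.1
      have hM : Nat.card ↥K = 887040 := by
        have h1 := (N.subgroupOf (centralizer ({z} : Set G))).card_mul_index
        rw [Nat.card_congr (subgroupOfEquivOfLe hNH).toEquiv, hNc, hW.2.2.1, index_eq_card,
          Nat.card_congr iso.toEquiv, ← Nat.card_congr e.toEquiv, hH] at h1
        omega
      have hcard : Nat.card ↥(centralizer ({x} : Set G)) = 887040 * 2 ^ 11 := by
        have hn : (V.subgroupOf (centralizer ({x} : Set G))).Normal :=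
          (normal_subgroupOf_iff_le_normalizer hV).2 hnV
        have hc' : IsComplement' (V.subgroupOf (centralizer ({x} : Set G)))
            (K.subgroupOf (centralizer ({x} : Set G))) := by
          apply isComplement'_of_disjoint_and_mul_eq_univ
          · rw [disjoint_iff, eq_bot_iff]
            rintro w ⟨hwV, hwK⟩
            have : (w : G) ∈ K ⊓ V := ⟨hwK, hwV⟩
            rw [hd, mem_bot] at this
            exact mem_bot.2 (Subtype.ext this)
          · rw [← Subgroup.normal_mul]
            rw [← subgroupOf_sup hV hK, sup_comm, hsup, subgroupOf_self, coe_top]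
        have := hc'.card_mul
        rw [Nat.card_congr (subgroupOfEquivOfLe hV).toEquiv, Nat.card_congr (subgroupOfEquivOfLe hK).toEquiv,
          hV11, hM] at this
        rw [← this, mul_comm]
      rw [hcard]
      constructor
      · norm_num
      · decide +kernel
  · have hP3 : Nat.card ↥P = 3 := hW.2.2.2.2.2.1
    haveI : Fact (Nat.Prime 3) := ⟨Nat.prime_three⟩
    obtain ⟨p, hp⟩ := exists_prime_orderOf_dvd_card' (G := ↥P) 3 (by rw [hP3])
    have hpo : orderOf (p : G) = 3 := (orderOf_coe p).trans hp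
    rw [card_centralizer_conj (S5564.result hG ⟨z, P, hW⟩ x (p : G) hx hpo)]
    refine harmless_of_dvd hHh (hH ▸ card_dvd_of_le ?_)
    refine le_trans ?_ (S5563.result hG z P hW).2.2.2.2
    have hPz : P = zpowers (p : G) := (eq_of_le_of_card_ge (zpowers_le.2 p.2) (by
      rw [Nat.card_zpowers, hpo, hP3])).symm
    intro w hw
    refine centralizer_le_normalizer _ (mem_centralizer_iff.2 fun v hv => ?_)
    rw [hPz] at hv
    obtain ⟨i, rfl⟩ := hv
    exact (Commute.zpow_left ((mem_centralizer_singleton_iff.1 hw).symm) i).eq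
  · haveI : Fact (Nat.Prime 5) := ⟨by norm_num⟩
    obtain ⟨q, hq⟩ := exists_prime_orderOf_dvd_card' (G := ↥(centralizer ({z} : Set G))) 5 (by
      rw [hH]; norm_num)
    have hqo : orderOf (q : G) = 5 := (orderOf_coe q).trans hq
    have hc : Nat.card ↥(zpowers (q : G)) = 5 := by rw [Nat.card_zpowers, hqo]
    obtain ⟨h25, J, hJd, E, hE, -, hE8, ⟨eJ⟩, -⟩ := R.five _ hc (zpowers_le.2 q.2)
    rw [exists_conj_zpowers h25 hx hqo, (J4Pentad77.idp_facts hJd).1, hc,
      card_eq_card_quotient_mul_card_subgroup E, Nat.card_congr eJ.toEquiv, hE8]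
    have h168 : Nat.card (Matrix.SpecialLinearGroup (Fin 3) (ZMod 2)) = 168 := by
      rw [Nat.card_eq_fintype_card]; decide +kernel
    rw [h168]
    exact ⟨by norm_num, by decide +kernel⟩
  · haveI : Fact (Nat.Prime 7) := ⟨by norm_num⟩
    obtain ⟨q, hq⟩ := exists_prime_orderOf_dvd_card' (G := ↥(centralizer ({z} : Set G))) 7 (by
      rw [hH]; norm_num)
    have hqo : orderOf (q : G) = 7 := (orderOf_coe q).trans hq
    have hc : Nat.card ↥(zpowers (q : G)) = 7 := by rw [Nat.card_zpowers, hqo]
    obtain ⟨h49, I, hId, ⟨eI⟩⟩ := R.seven _ hc (zpowers_le.2 q.2)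
    rw [exists_conj_zpowers h49 hx hqo, (J4Pentad77.idp_facts hId).1, hc, Nat.card_congr eI.toEquiv,
      Nat.card_perm, Nat.card_fin]
    exact ⟨by decide, by decide⟩

/-- The facts consumed by the eleven rows: the large primes have self-centralising Sylow subgroups. -/
theorem facts_of_rows (hG : ¬ IsMulCommutative G) (hJ : IsOfJankoFourTypeAt z) (R : RowHyps G z)
    (hcard : Nat.card G = J4Large96.order)
    (hw23 : ∃ U : Subgroup G, Nat.card U = 23 ∧
      11 ∣ (centralizer (U : Set G)).relIndex (normalizer (U : Set G)))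
    (hw31 : ∃ U : Subgroup G, Nat.card U = 31 ∧
      10 ∣ (centralizer (U : Set G)).relIndex (normalizer (U : Set G))) : Facts G := by
  have F : J4Large96.Facts G :=
    ⟨hcard, fun x r hr hx q hq => (harmless_centralizer hG hJ R hr hx).2 q hq, hw23, hw31⟩
  obtain ⟨g23, g29, g31, g37, g43⟩ := J4Large96.large_primes F
  refine ⟨hcard, fun x r hr hne hx => ?_⟩
  have hrd : r ∣ J4Large96.order := hcard ▸ hx ▸ orderOf_dvd_natCard x
  have hmem : r ∈ ([2, 3, 5, 7, 11, 23, 29, 31, 37, 43] : List ℕ) := by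
    have hfac : J4Large96.order = 2 ^ 21 * 3 ^ 3 * 5 * 7 * 11 ^ 3 * 23 * 29 * 31 * 37 * 43 := by
      decide +kernel
    rw [hfac] at hrd
    simp only [hr.dvd_mul] at hrd
    simp only [List.mem_cons, List.not_mem_nil, or_false]
    have key : ∀ p k : ℕ, p.Prime → r ∣ p ^ k → r = p := fun p k hp h =>
      (Nat.prime_dvd_prime_iff_eq hr hp).1 (hr.dvd_of_dvd_pow h)
    rcases hrd with ((((((((h | h) | h) | h) | h) | h) | h) | h) | h) | h
    · exact Or.inl (key 2 21 Nat.prime_two h)
    · exact Or.inr (Or.inl (key 3 3 Nat.prime_three h))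
    · exact Or.inr (Or.inr (Or.inl (key 5 1 (by norm_num) (by simpa using h))))
    · exact Or.inr (Or.inr (Or.inr (Or.inl (key 7 1 (by norm_num) (by simpa using h)))))
    · exact absurd (key 11 3 (by norm_num) h) hne
    all_goals
      have := (Nat.prime_dvd_prime_iff_eq hr (by norm_num)).1 h
      omega
  have big : ∀ p e : ℕ, p.Prime → (∀ U : Sylow p G,
      centralizer ((U : Subgroup G) : Set G) = (U : Subgroup G)) → r = p → e = 0 →
      ¬ p * p ∣ J4Large96.order → p < 11 ^ 3 → ¬ 11 ^ 3 ∣ Nat.card ↥(centralizer ({x} : Set G)) := by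
    intro p e hp hU hrp _ hp2 hlt
    subst hrp
    haveI := Fact.mk hr
    rw [exists_conj_zpowers (by rw [hcard]; exact hp2) hx hx]
    let S := (IsPGroup.of_card (n := 1) (by rw [Nat.card_zpowers, hx, pow_one]) :
      IsPGroup r ↥(zpowers x)).toSylow (fun hd => hp2 (by
        rw [← hcard, ← (zpowers x).card_mul_index, Nat.card_zpowers, hx]
        exact mul_dvd_mul_left r hd))
    have hS : centralizer ((zpowers x : Subgroup G) : Set G) = zpowers x := hU S
    rw [hS, Nat.card_zpowers, hx]
    intro hd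
    exact absurd (Nat.le_of_dvd hr.pos hd) (by omega)
  fin_cases hmem
  · exact (harmless_centralizer hG hJ R (by simp) hx).1
  · exact (harmless_centralizer hG hJ R (by simp) hx).1
  · exact (harmless_centralizer hG hJ R (by simp) hx).1
  · exact (harmless_centralizer hG hJ R (by simp) hx).1
  · exact absurd rfl hne
  · exact big 23 0 (by norm_num) (fun U => (g23 U).1) rfl rfl (by decide +kernel) (by norm_num)
  · exact big 29 0 (by norm_num) (fun U => (g29 U).1) rfl rfl (by decide +kernel) (by norm_num)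
  · exact big 31 0 (by norm_num) (fun U => (g31 U).1) rfl rfl (by decide +kernel) (by norm_num)
  · exact big 37 0 (by norm_num) (fun U => (g37 U).1) rfl rfl (by decide +kernel) (by norm_num)
  · exact big 43 0 (by norm_num) (fun U => (g43 U).1) rfl rfl (by decide +kernel) (by norm_num)

end Cfsg.Agent.Lib.J4Eleven90
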