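import Cfsg.Agent.Lib.J4Eleven90.Group
import Cfsg.Agent.Lib.J4Eleven90.Rows
import Cfsg.Agent.Lib.J4Large96.Witness
import Cfsg.Agent.Lib.J4Dce59.Main

/-!
# Transfer to a group isomorphic to the presented Janko group
-/

set_option autoImplicit false

universe u

namespace Cfsg.Agent.Lib.J4Eleven90

open Subgroup Cfsg

/-- Both inputs in a group isomorphic to `J₄`. -/
theorem inputs {G : Type u} [Group G] [Finite G] [IsSimpleGroup G] (hG : ¬ IsMulCommutative G) {z : G}
    (hJ : IsOfJankoFourTypeAt z) (R : RowHyps G z) (f : Spor.J4 ≃* G)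
    (hW : Nonempty (Witness Spor.J4)) : Facts G ∧ Nonempty (Witness G) := by
  obtain ⟨W⟩ := hW
  obtain ⟨w23, w31⟩ := J4Large96.witnesses_of_iso f
  refine ⟨facts_of_rows hG hJ R ?_ w23 w31, ⟨W.map f⟩⟩
  rw [← Nat.card_congr f.toEquiv]
  exact J4Dce59.card_J

end Cfsg.Agent.Lib.J4Eleven90
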