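import Mathlib

/-!
# Extraspecial groups of order `11 ^ 3` by normal forms

Elements `u ^ i * v ^ j * a ^ l` for generators with `a` central and `v u = u v a`.
-/

set_option autoImplicit false

namespace Cfsg.Agent.Lib.J4Eleven90.Triples68

/-- Triples of exponents. -/
abbrev Tri : Type := ℕ × ℕ × ℕ

/-- The product of triples. -/
def m3 (x y : Tri) : Tri :=
  ((x.1 + y.1) % 11, (x.2.1 + y.2.1) % 11, (x.2.2 + y.2.2 + x.2.1 * y.1) % 11)

/-- Powers of triples. -/
def p3 (x : Tri) : ℕ → Tri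
  | 0 => (0, 0, 0)
  | n + 1 => m3 (p3 x n) x

/-- A number below `1331` as a triple. -/
def dec (c : ℕ) : Tri := (c / 121, c / 11 % 11, c % 11)

/-- A triple as a number. -/
def enc (x : Tri) : ℕ := x.1 * 121 + x.2.1 * 11 + x.2.2

/-- The action given by the images of the generators. -/
def act (im : Tri × Tri × Tri) (w : Tri) : Tri :=
  m3 (m3 (p3 im.1 w.1) (p3 im.2.1 w.2.1)) (p3 im.2.2 w.2.2)

theorem p3_eleven : ((List.range 1331).all fun c => decide (p3 (dec c) 11 = (0, 0, 0))) = true := by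
  decide +kernel

variable {G : Type*} [Group G] (u v a : G)

/-- The element of a triple. -/
def E (x : Tri) : G := u ^ x.1 * v ^ x.2.1 * a ^ x.2.2

/-- The relations. -/
structure Rels : Prop where
  hu : u ^ 11 = 1
  hv : v ^ 11 = 1
  ha : a ^ 11 = 1
  au : Commute a u
  av : Commute a v
  vu : v * u = u * v * a

variable {u v a} (h : Rels u v a)
include h

theorem pow_v_mul_u (j : ℕ) : v ^ j * u = u * v ^ j * a ^ j := by
  induction j with
  | zero => simp
  | succ j ih =>
    calc v ^ (j + 1) * u = v ^ j * (v * u) := by rw [pow_succ, mul_assoc]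
      _ = (v ^ j * u) * v * a := by rw [h.vu]; simp only [mul_assoc]
      _ = u * v ^ j * a ^ j * v * a := by rw [ih]
      _ = u * v ^ j * v * a ^ j * a := by
        rw [mul_assoc (u * v ^ j), (h.av.pow_left j).eq, ← mul_assoc]
      _ = u * v ^ (j + 1) * a ^ (j + 1) := by simp only [pow_succ, mul_assoc]

theorem pow_v_mul_pow_u (j i : ℕ) : v ^ j * u ^ i = u ^ i * v ^ j * a ^ (j * i) := by
  induction i with
  | zero => simp
  | succ i ih =>
    calc v ^ j * u ^ (i + 1) = (v ^ j * u ^ i) * u := by rw [pow_succ, mul_assoc]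
      _ = u ^ i * v ^ j * a ^ (j * i) * u := by rw [ih]
      _ = u ^ i * (v ^ j * u) * a ^ (j * i) := by
        rw [mul_assoc (u ^ i * v ^ j), (h.au.pow_left (j * i)).eq, ← mul_assoc, mul_assoc (u ^ i)]
      _ = u ^ (i + 1) * v ^ j * (a ^ j * a ^ (j * i)) := by
        rw [pow_v_mul_u h, pow_succ]; simp only [mul_assoc]
      _ = _ := by rw [← pow_add]; congr 2; ring

theorem E_mod (i j l : ℕ) : E u v a (i % 11, j % 11, l % 11) = E u v a (i, j, l) := by
  simp only [E]
  rw [← pow_eq_pow_mod i h.hu, ← pow_eq_pow_mod j h.hv, ← pow_eq_pow_mod l h.ha]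

theorem E_m3 (x y : Tri) : E u v a (m3 x y) = E u v a x * E u v a y := by
  obtain ⟨i, j, l⟩ := x
  obtain ⟨i', j', l'⟩ := y
  rw [m3, E_mod h]
  simp only [E]
  symm
  calc u ^ i * v ^ j * a ^ l * (u ^ i' * v ^ j' * a ^ l')
      = u ^ i * v ^ j * (a ^ l * u ^ i') * v ^ j' * a ^ l' := by simp only [mul_assoc]
    _ = u ^ i * (v ^ j * u ^ i') * (a ^ l * v ^ j') * a ^ l' := by
      rw [(h.au.pow_pow l i').eq]; simp only [mul_assoc]
    _ = u ^ i * u ^ i' * v ^ j * (a ^ (j * i') * v ^ j') * (a ^ l * a ^ l') := by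
      rw [pow_v_mul_pow_u h, (h.av.pow_pow l j').eq]; simp only [mul_assoc]
    _ = u ^ (i + i') * (v ^ j * v ^ j') * (a ^ (j * i') * (a ^ l * a ^ l')) := by
      rw [(h.av.pow_pow (j * i') j').eq, pow_add]; simp only [mul_assoc]
    _ = _ := by rw [← pow_add, ← pow_add, ← pow_add]; congr 2; ring

theorem E_zero : E u v a (0, 0, 0) = 1 := by simp [E]

theorem E_p3 (x : Tri) (n : ℕ) : E u v a (p3 x n) = E u v a x ^ n := by
  induction n with
  | zero => simpa [p3] using E_zero h
  | succ n ih => rw [p3, E_m3 h, ih, pow_succ]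

theorem exists_dec (x : Tri) : ∃ c < 1331, E u v a (dec c) = E u v a x := by
  obtain ⟨i, j, l⟩ := x
  refine ⟨i % 11 * 121 + j % 11 * 11 + l % 11, by omega, ?_⟩
  rw [← E_mod h i j l, dec]
  congr 1
  refine Prod.ext (by simp only; omega) (Prod.ext (by simp only; omega) (by simp only; omega))

theorem E_pow_eleven (x : Tri) : E u v a x ^ 11 = 1 := by
  obtain ⟨c, hc, e⟩ := exists_dec h x
  have := of_decide_eq_true (List.all_eq_true.mp p3_eleven c (List.mem_range.mpr hc))
  rw [← e, ← E_p3 h, this, E_zero h]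

/-- The subgroup of all elements in normal form. -/
def subgroup : Subgroup G where
  carrier := {g | ∃ x, E u v a x = g}
  one_mem' := ⟨(0, 0, 0), E_zero h⟩
  mul_mem' := by
    rintro _ _ ⟨x, rfl⟩ ⟨y, rfl⟩
    exact ⟨m3 x y, E_m3 h x y⟩
  inv_mem' := by
    rintro _ ⟨x, rfl⟩
    refine ⟨p3 x 10, ?_⟩
    rw [E_p3 h, eq_inv_iff_mul_eq_one, ← pow_succ, E_pow_eleven h]

theorem mem_subgroup {g : G} : g ∈ subgroup h ↔ ∃ x, E u v a x = g := Iff.rfl

theorem pow_mem_eleven {g : G} (hg : g ∈ subgroup h) : g ^ 11 = 1 := by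
  obtain ⟨x, rfl⟩ := hg
  exact E_pow_eleven h x

theorem u_mem : u ∈ subgroup h := ⟨(1, 0, 0), by simp [E]⟩
theorem v_mem : v ∈ subgroup h := ⟨(0, 1, 0), by simp [E]⟩
theorem a_mem : a ∈ subgroup h := ⟨(0, 0, 1), by simp [E]⟩

theorem card_subgroup [Finite G] (hne : u * v ≠ v * u) : Nat.card (subgroup h) = 11 ^ 3 := by
  haveI : Fact (Nat.Prime 11) := ⟨by norm_num⟩
  have hp : IsPGroup 11 (subgroup h) := fun g =>
    ⟨1, Subtype.ext (by simpa using pow_mem_eleven h g.2)⟩
  have hle : Nat.card (subgroup h) ≤ 1331 := by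
    have hs : Function.Surjective fun c : Fin 1331 =>
        (⟨E u v a (dec c), ⟨_, rfl⟩⟩ : subgroup h) := by
      rintro ⟨g, x, rfl⟩
      obtain ⟨c, hc, e⟩ := exists_dec h x
      exact ⟨⟨c, hc⟩, Subtype.ext e⟩
    simpa using Nat.card_le_card_of_surjective _ hs
  obtain ⟨k, hk⟩ := IsPGroup.iff_card.mp hp
  have hk3 : k ≤ 3 := by
    by_contra hc
    have : 11 ^ 4 ≤ 11 ^ k := Nat.pow_le_pow_right (by norm_num) (by omega)
    omega
  have hnc : ¬ ∀ x y : subgroup h, x * y = y * x := fun hc =>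
    hne (congrArg Subtype.val (hc ⟨u, u_mem h⟩ ⟨v, v_mem h⟩))
  interval_cases k
  · rw [pow_zero] at hk
    haveI := (Nat.card_eq_one_iff_unique.mp hk).1
    exact absurd (fun x y => Subsingleton.elim _ _) hnc
  · haveI : IsCyclic (subgroup h) := isCyclic_of_prime_card (p := 11) (by simpa using hk)
    exact absurd (fun x y => IsCyclic.commGroup.mul_comm x y) hnc
  · exact absurd (IsPGroup.commutative_of_card_eq_prime_sq hk) hnc
  · exact hk

theorem conj_E {g : G} {im : Tri × Tri × Tri} (hu : g * u = E u v a im.1 * g)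
    (hv : g * v = E u v a im.2.1 * g) (ha : g * a = E u v a im.2.2 * g) (w : Tri) :
    g * E u v a w * g⁻¹ = E u v a (act im w) := by
  have e : ∀ {x : G} {y : Tri}, g * x = E u v a y * g → MulAut.conj g x = E u v a y := by
    intro x y hxy
    rw [MulAut.conj_apply, hxy, mul_inv_cancel_right]
  show MulAut.conj g (E u v a w) = _
  rw [act, E_m3 h, E_m3 h, E_p3 h, E_p3 h, E_p3 h, ← e hu, ← e hv, ← e ha]
  simp only [E, map_mul, map_pow]

theorem mem_normalizer [Finite G] {g : G} {im : Tri × Tri × Tri} (hu : g * u = E u v a im.1 * g)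
    (hv : g * v = E u v a im.2.1 * g) (ha : g * a = E u v a im.2.2 * g) :
    g ∈ Subgroup.normalizer (subgroup h : Set G) := by
  have hm : ∀ x ∈ subgroup h, MulAut.conj g x ∈ subgroup h := by
    rintro _ ⟨w, rfl⟩
    exact ⟨_, (conj_E h hu hv ha w).symm⟩
  have he : (subgroup h).map (MulAut.conj g).toMonoidHom = subgroup h := by
    refine Subgroup.eq_of_le_of_card_ge ?_ ?_
    · rintro _ ⟨x, hx, rfl⟩
      exact hm x hx
    · exact (Nat.card_congr ((subgroup h).equivMapOfInjective _ (MulAut.conj g).injective).toEquiv).le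
  rw [Subgroup.mem_normalizer_iff]
  intro x
  refine ⟨hm x, fun hx => ?_⟩
  have hx' : MulAut.conj g x ∈ (subgroup h).map (MulAut.conj g).toMonoidHom := he.symm ▸ hx
  obtain ⟨y, hy, e⟩ := hx'
  exact (MulAut.conj g).injective e ▸ hy

end Cfsg.Agent.Lib.J4Eleven90.Triples68
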