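import Cfsg.Agent.Lib.J4Low8.Check
import Cfsg.Agent.Lib.J4Eleven90.Data68
import Cfsg.Agent.Lib.J4Eleven90.Triples68

/-!
# Kernel checks on the packed matrices
-/

set_option autoImplicit false
set_option maxRecDepth 100000
set_option Elab.async false

namespace Cfsg.Agent.Lib.J4Eleven90.Check68

open Cfsg.Agent.Lib.J4Rep72
open Cfsg.Agent.Lib.J4Low8 (unpack eqL)
open Cfsg.Agent.Lib.J4Eleven90.Triples68 (Tri act dec enc)
open Cfsg.Agent.Lib.J4Eleven90.ModelData68

/-- The matrix of an index. -/
noncomputable def mat (n : ℕ) : List ℕ := unpack ((packs.getD (n / 40) []).getD (n % 40) 0)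

theorem len_mat (n : ℕ) : (mat n).length = 112 := by simp [mat, unpack]

/-- Two products along lists of indices agree. -/
noncomputable def eqW (l r : List ℕ) : Bool := eqL (wordM mat l) (wordM mat r)

/-- A step of the program. -/
noncomputable def stepOk (n : ℕ) : Bool :=
  let s := steps.getD n (0, 0)
  Nat.ble (s.1 + 1) (n + 4) && Nat.ble (s.2 + 1) (n + 4) &&
    eqL (mulM (mat s.1) (mat s.2)) (mat (n + 4))

theorem base : (eqL (mat 0) (matLet 0) && eqL (mat 1) (matLet 1) && eqL (mat 2) (matLet 2) &&
    eqL (mat 3) (matLet 3)) = true := by decide +kernel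

theorem steps0 : ((List.range' 0 43).all stepOk) = true := by decide +kernel
theorem steps1 : ((List.range' 43 43).all stepOk) = true := by decide +kernel
theorem steps2 : ((List.range' 86 43).all stepOk) = true := by decide +kernel
theorem steps3 : ((List.range' 129 43).all stepOk) = true := by decide +kernel

/-- The word of a triple. -/
def wordT (x : Tri) : List ℕ :=
  List.replicate x.1 iu ++ List.replicate x.2.1 iv ++ List.replicate x.2.2 ia

/-- The five elements acting. -/
def actors : List ℕ := [iu, iv, id5, ip, iq]

/-- The images of the generators under one of the elements. -/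
def imOf (g : ℕ) : Tri × Tri × Tri := imgs.getD g ((0, 0, 0), (0, 0, 0), (0, 0, 0))

theorem relations : (eqW (List.replicate 11 iu) [] && eqW (List.replicate 11 iv) [] &&
    eqW (List.replicate 11 ia) [] && eqW [ia, iu] [iu, ia] && eqW [ia, iv] [iv, ia] &&
    eqW [iv, iu] [iu, iv, ia] && eqW (List.replicate 5 id5) []) = true := by decide +kernel

/-- The images are as recorded. -/
noncomputable def imgOk (g : ℕ) : Bool :=
  let k := actors.getD g 0
  eqW [k, iu] (wordT (imOf g).1 ++ [k]) && eqW [k, iv] (wordT (imOf g).2.1 ++ [k]) &&
    eqW [k, ia] (wordT (imOf g).2.2 ++ [k])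

theorem img_check : (List.range 5).all imgOk = true := by decide +kernel

theorem nontrivial_check : (!eqW [iu, iv] [iv, iu] && !eqW [ia] [] && !eqW [iv] [] &&
    !eqW [id5] []) = true := by decide +kernel

/-- An entry of the forest. -/
def node (i : ℕ) : ℕ := (forest.getD (i / 35) []).getD (i % 35) 0

/-- An entry is a root or the image of an earlier one. -/
def nodeOk (i : ℕ) : Bool :=
  if i < 2 then (node i == if i = 0 then 1 else 11)
  else
    let e := node i
    Nat.blt (e / 1331 / 5) i &&
      enc (act (imOf (e / 1331 % 5)) (dec (node (e / 1331 / 5) % 1331))) == e % 1331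

theorem forest_check : (List.range 1330).all nodeOk = true := by decide +kernel

/-- The set of classes met, as a number. -/
def seen : ℕ := (List.range 1330).foldr (fun i acc => 2 ^ (node i % 1331) ||| acc) 0

theorem seen_check : seen = 2 ^ 1331 - 2 := by decide +kernel

/-- The code of a matrix of degree two over three elements. -/
def codeN (a b c d : ℕ) : ℕ := a * 27 + b * 9 + c * 3 + d

/-- Multiplication of a code on the right by the first generator. -/
def timesP (n : ℕ) : ℕ :=
  codeN (n / 27) ((n / 27 + n / 9 % 3) % 3) (n / 3 % 3) ((n / 3 % 3 + n % 3) % 3)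

/-- Multiplication of a code on the right by the second generator. -/
def timesQ (n : ℕ) : ℕ :=
  codeN (n / 9 % 3) ((n / 27 + n / 9 % 3) % 3) (n % 3) ((n / 3 % 3 + n % 3) % 3)

/-- The value of a word in the two generators. -/
def evalW (w : List Bool) : ℕ := w.foldl (fun n b => if b then timesQ n else timesP n) 28

/-- The word of a code. -/
def tabW (n : ℕ) : List ℕ :=
  let t := table.getD n 0
  if t = 0 then [] else [t - 1]

/-- The table is multiplicative at a code. -/
noncomputable def tabOk (n : ℕ) : Bool :=
  if (n / 27 * (n % 3) + 2 * (n / 9 % 3) * (n / 3 % 3)) % 3 = 0 then true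
  else evalW (glw.getD n []) == n && eqW (tabW n ++ [ip]) (tabW (timesP n)) &&
    eqW (tabW n ++ [iq]) (tabW (timesQ n)) && (n == 28 || !eqW (tabW n) [])

theorem tab0 : (List.range' 0 27).all tabOk = true := by decide +kernel
theorem tab1 : (List.range' 27 27).all tabOk = true := by decide +kernel
theorem tab2 : (List.range' 54 27).all tabOk = true := by decide +kernel
theorem tab_one : tabW 28 = [] := by decide +kernel
theorem tab_range : (List.range 81).all (fun n => (tabW n).all fun i => Nat.blt i count) = true := by
  decide +kernel

/-- The rows with the identity added. -/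
noncomputable def subOne (A : List ℕ) : List ℕ :=
  (List.range 112).map fun i => Nat.xor (A.getD i 0) (2 ^ i)

/-- The first rows of the identity. -/
def firstM (r : ℕ) : List ℕ := (List.range 112).map fun i => if i < r then 2 ^ i else 0

theorem rank_a : eqL (mulM (mulM (unpack leftA) (subOne (mat ia))) (unpack rightA)) (firstM 110) =
    true := by decide +kernel

theorem rank_v : eqL (mulM (mulM (unpack leftV) (firstM 100)) (unpack rightV)) (subOne (mat iv)) =
    true := by decide +kernel

theorem index_check : (iu < count ∧ iv < count ∧ ia < count ∧ id5 < count ∧ ip < count ∧ iq < count ∧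
    count = 176) := by decide

end Cfsg.Agent.Lib.J4Eleven90.Check68
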