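import Cfsg.Agent.Lib.J4Eleven90.Spec
import Cfsg.Agent.Lib.PGroup.Frattini
import Cfsg.Prelude.Def_Transfer

/-!
# The Sylow eleven subgroup of a group of type J4: the abstract half

The normaliser acts freely on generating pairs of the extraspecial subgroup modulo its centre, so its order
divides `11 * 1597200`; with the order of the group this gives `2^4·3·5·11^3`.
-/

set_option autoImplicit false

universe u v

namespace Cfsg.Agent.Lib.J4Eleven90

open Subgroup
open scoped commutatorElement

section Pure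

variable {U : Type u} [Group U] [Finite U]

theorem exists_ne_comm (hU : ¬ ∀ x y : U, x * y = y * x) : ∃ x y : U, x * y ≠ y * x := by
  by_contra hc
  exact hU fun x y => by
    by_contra hxy
    exact hc ⟨x, y, hxy⟩

/-- In a non-abelian group of order `11^3` the centre has order eleven. -/
theorem card_center_cube (hc : Nat.card U = 11 ^ 3) (hU : ¬ ∀ x y : U, x * y = y * x) :
    Nat.card (Subgroup.center U) = 11 := by
  haveI : Fact (Nat.Prime 11) := ⟨by norm_num⟩
  haveI : Nontrivial U := Finite.one_lt_card_iff_nontrivial.1 (by rw [hc]; norm_num)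
  have hne : Nat.card (Subgroup.center U) ≠ 1 := fun h1 =>
    (IsPGroup.of_card hc : IsPGroup 11 U).bot_lt_center.ne' (eq_bot_of_card_eq _ h1)
  obtain ⟨k, hk, hk'⟩ := (Nat.dvd_prime_pow (by norm_num)).1
    (hc ▸ card_subgroup_dvd_card (Subgroup.center U))
  have hmul := (Subgroup.center U).card_mul_index
  rw [hc, hk'] at hmul
  have hcyc : ∀ q : ℕ, (Subgroup.center U).index = q → (q = 1 ∨ q = 11) → False := by
    intro q hq hq'
    apply hU
    haveI : IsCyclic (U ⧸ Subgroup.center U) := by
      rcases hq' with rfl | rfl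
      · haveI : Subsingleton (U ⧸ Subgroup.center U) :=
          Finite.card_le_one_iff_subsingleton.1 (by rw [← index_eq_card, hq])
        exact isCyclic_of_subsingleton
      · exact isCyclic_of_prime_card (p := 11) (by rw [← index_eq_card, hq])
    exact commutative_of_cyclic_center_quotient (QuotientGroup.mk' (Subgroup.center U))
      (by rw [QuotientGroup.ker_mk'])
  interval_cases k
  · exact absurd hk' (by simpa using hne)
  · simpa using hk'
  · exact (hcyc 11 (by omega) (Or.inr rfl)).elim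
  · exact (hcyc 1 (by omega) (Or.inl rfl)).elim

theorem card_centralizer_cube (hc : Nat.card U = 11 ^ 3) (hU : ¬ ∀ x y : U, x * y = y * x) {x : U}
    (hx : x ∉ Subgroup.center U) : Nat.card (centralizer ({x} : Set U)) = 121 := by
  have hlt : Subgroup.center U < centralizer ({x} : Set U) := by
    refine SetLike.lt_iff_le_and_exists.2 ⟨center_le_centralizer _, x, ?_, hx⟩
    exact mem_centralizer_singleton_iff.2 rfl
  have hne : centralizer ({x} : Set U) ≠ ⊤ := fun h => hx (mem_center_iff.2 fun g =>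
    mem_centralizer_singleton_iff.1 (h ▸ mem_top g))
  obtain ⟨k, hk, hk'⟩ := (Nat.dvd_prime_pow (by norm_num : Nat.Prime 11)).1
    (hc ▸ card_subgroup_dvd_card (centralizer ({x} : Set U)))
  have h1 : Nat.card (Subgroup.center U) < Nat.card (centralizer ({x} : Set U)) :=
    (card_le_of_le hlt.le).lt_of_ne fun he => hlt.ne (eq_of_le_of_card_ge hlt.le he.ge)
  have h2 : Nat.card (centralizer ({x} : Set U)) ≠ 11 ^ 3 := fun he =>
    hne (eq_top_of_card_eq _ (he.trans hc.symm))
  rw [card_center_cube hc hU] at h1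
  rw [hk'] at h1 h2 ⊢
  interval_cases k <;> simp_all

/-- The number of non-commuting pairs. -/
theorem card_pairs (hc : Nat.card U = 11 ^ 3) (hU : ¬ ∀ x y : U, x * y = y * x) :
    Nat.card {p : U × U // p.1 * p.2 ≠ p.2 * p.1} = 1597200 := by
  classical
  cases nonempty_fintype U
  have he : {p : U × U // p.1 * p.2 ≠ p.2 * p.1} ≃
      Σ x : U, {y : U // ¬ y ∈ centralizer ({x} : Set U)} :=
    { toFun := fun p => ⟨p.1.1, p.1.2, fun h => p.2 (mem_centralizer_singleton_iff.1 h).symm⟩
      invFun := fun s => ⟨(s.1, s.2.1), fun h => s.2.2 (mem_centralizer_singleton_iff.2 h.symm)⟩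
      left_inv := fun p => rfl
      right_inv := fun s => rfl }
  rw [Nat.card_congr he, Nat.card_sigma]
  have hf : ∀ x : U, Nat.card {y : U // ¬ y ∈ centralizer ({x} : Set U)} =
      if x ∈ Subgroup.center U then 0 else 1210 := by
    intro x
    have h1 : Nat.card {y : U // ¬ y ∈ centralizer ({x} : Set U)} =
        Nat.card U - Nat.card (centralizer ({x} : Set U)) := by
      simp only [Nat.card_eq_fintype_card]
      exact Fintype.card_subtype_compl _
    rw [h1]
    split_ifs with hx
    · rw [show centralizer ({x} : Set U) = ⊤ from eq_top_iff.2 fun g _ =>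
        mem_centralizer_singleton_iff.2 (mem_center_iff.1 hx g), card_top, Nat.sub_self]
    · rw [card_centralizer_cube hc hU hx, hc]
      norm_num
  simp only [hf]
  rw [Finset.sum_ite, Finset.sum_const_zero, zero_add, Finset.sum_const, smul_eq_mul]
  have h2 : (Finset.univ.filter fun x : U => ¬ x ∈ Subgroup.center U).card = 1320 := by
    rw [← Fintype.card_subtype, Fintype.card_subtype_compl, ← Nat.card_eq_fintype_card, hc,
      ← Nat.card_eq_fintype_card, card_center_cube hc hU]
    norm_num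
  rw [h2]

/-- A non-commuting pair generates. -/
theorem closure_pair (hc : Nat.card U = 11 ^ 3) {x y : U} (hxy : x * y ≠ y * x) :
    Subgroup.closure ({x, y} : Set U) = ⊤ := by
  haveI : Fact (Nat.Prime 11) := ⟨by norm_num⟩
  set S := Subgroup.closure ({x, y} : Set U)
  obtain ⟨k, hk, hk'⟩ := (Nat.dvd_prime_pow (by norm_num : Nat.Prime 11)).1
    (hc ▸ card_subgroup_dvd_card S)
  have hnc : ¬ ∀ a b : ↥S, a * b = b * a := fun h => hxy (congrArg Subtype.val
    (h ⟨x, subset_closure (Set.mem_insert x _)⟩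
      ⟨y, subset_closure (Set.mem_insert_of_mem x rfl)⟩))
  interval_cases k
  · haveI : Subsingleton ↥S := Finite.card_le_one_iff_subsingleton.1 (by simpa using hk'.le)
    exact absurd (fun a b => Subsingleton.elim _ _) hnc
  · haveI : IsCyclic ↥S := isCyclic_of_prime_card (p := 11) (by simpa using hk')
    exact absurd (fun a b => IsCyclic.commGroup.mul_comm a b) hnc
  · exact absurd (IsPGroup.commutative_of_card_eq_prime_sq hk') hnc
  · exact eq_top_of_card_eq _ (hk'.trans hc.symm)

end Pure

variable {G : Type u} [Group G]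

/-- A witness moves along an isomorphism. -/
def Witness.map {H : Type v} [Group H] (f : G ≃* H) (W : Witness G) : Witness H where
  U := W.U.map f.toMonoidHom
  a := f W.a
  v := f W.v
  card_U := by rw [card_map_of_injective f.injective, W.card_U]
  pow_U := by
    intro w hw
    obtain ⟨w, hw0, rfl⟩ := mem_map.1 hw; replace hw := hw0
    rw [← map_pow, W.pow_U w hw, map_one]
  nonab := by
    obtain ⟨x, hx, y, hy, hxy⟩ := W.nonab
    refine ⟨f x, ⟨x, hx, rfl⟩, f y, ⟨y, hy, rfl⟩, fun h => hxy (f.injective ?_)⟩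
    rwa [map_mul, map_mul]
  a_mem := ⟨W.a, W.a_mem, rfl⟩
  v_mem := ⟨W.v, W.v_mem, rfl⟩
  a_ne := fun h => W.a_ne (f.injective (h.trans (map_one f).symm))
  v_ne := fun h => W.v_ne (f.injective (h.trans (map_one f).symm))
  card_norm_ge := by
    rw [← map_equiv_normalizer_eq, card_map_of_injective f.injective]
    exact W.card_norm_ge
  gl23 := by
    obtain ⟨K, hK, ⟨e⟩⟩ := W.gl23
    exact ⟨K.map f.toMonoidHom, (map_mono hK).trans (map_equiv_normalizer_eq W.U f).le,
      ⟨(equivMapOfInjective K f.toMonoidHom f.injective).symm.trans e⟩⟩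
  classes := by
    intro w hw hne
    obtain ⟨w, hw0, rfl⟩ := mem_map.1 hw; replace hw := hw0
    rcases W.classes w hw (fun h => hne (by rw [h]; exact map_one f)) with h | h
    · exact Or.inl (f.toMonoidHom.map_isConj h)
    · exact Or.inr (f.toMonoidHom.map_isConj h)
  not_conj := fun h => by
    have h' := f.symm.toMonoidHom.map_isConj h
    exact W.not_conj (by simpa using h')

variable [Finite G] (F : Facts G) (W : Witness G)

include F W

theorem Witness.exists_sylow : ∃ P : Sylow 11 G, (P : Subgroup G) = W.U := by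
  haveI : Fact (Nat.Prime 11) := ⟨by norm_num⟩
  obtain ⟨P, hP⟩ := (IsPGroup.of_card W.card_U : IsPGroup 11 ↥W.U).exists_le_sylow
  refine ⟨P, (eq_of_le_of_card_ge hP ?_).symm⟩
  obtain ⟨k, hk⟩ := IsPGroup.iff_card.1 P.isPGroup'
  rw [W.card_U, hk]
  by_contra hlt
  have h4 : 11 ^ 4 ∣ Nat.card G := by
    refine dvd_trans (pow_dvd_pow 11 ?_) (hk ▸ card_subgroup_dvd_card (P : Subgroup G))
    by_contra hk3
    exact hlt (Nat.pow_le_pow_right (by norm_num) (by omega))
  rw [F.card, J4Large96.order] at h4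
  norm_num at h4

theorem Witness.centralizer_le : centralizer (W.U : Set G) ≤ W.U := by
  haveI : Fact (Nat.Prime 11) := ⟨by norm_num⟩
  obtain ⟨P, hP⟩ := W.exists_sylow F
  have hC : IsPGroup 11 ↥(centralizer (W.U : Set G)) := by
    refine IsPGroup.of_card (n := (Nat.card ↥(centralizer (W.U : Set G))).primeFactorsList.length)
      (Nat.eq_prime_pow_of_unique_prime_dvd Nat.card_pos.ne' fun {r} hr hrd => ?_)
    by_contra hne
    haveI := Fact.mk hr
    obtain ⟨x, hx⟩ := exists_prime_orderOf_dvd_card' (G := ↥(centralizer (W.U : Set G))) r hrd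
    refine F.small (x : G) r hr hne (by rw [orderOf_coe]; exact hx) ?_
    rw [← W.card_U]
    exact card_dvd_of_le fun w hw => mem_centralizer_singleton_iff.2
      (mem_centralizer_iff.1 x.2 w hw)
  have hsup : IsPGroup 11 ↥(W.U ⊔ centralizer (W.U : Set G)) :=
    IsPGroup.to_sup_of_normal_left' (IsPGroup.of_card W.card_U) hC (centralizer_le_normalizer _)
  have h2 := P.is_maximal' hsup (hP ▸ le_sup_left)
  rw [← hP] at h2 ⊢
  exact le_sup_right.trans h2.le

theorem Witness.center_facts :
    Nat.card (Subgroup.center ↥W.U) = 11 ∧ Nat.card ↥(centralizer (W.U : Set G)) = 11 := by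
  have hnc : ¬ ∀ x y : ↥W.U, x * y = y * x := fun h => by
    obtain ⟨x, hx, y, hy, hxy⟩ := W.nonab
    exact hxy (congrArg Subtype.val (h ⟨x, hx⟩ ⟨y, hy⟩))
  refine ⟨card_center_cube W.card_U hnc, ?_⟩
  have heq : (Subgroup.center ↥W.U).map W.U.subtype = centralizer (W.U : Set G) := by
    ext g
    constructor
    · rintro ⟨z, hz, rfl⟩
      exact mem_centralizer_iff.2 fun w hw => congrArg Subtype.val (mem_center_iff.1 hz ⟨w, hw⟩)
    · intro hg
      exact ⟨⟨g, W.centralizer_le F hg⟩,
        mem_center_iff.2 fun w => Subtype.ext (mem_centralizer_iff.1 hg w w.2), rfl⟩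
  rw [← heq, card_map_of_injective W.U.subtype_injective]
  exact card_center_cube W.card_U hnc

theorem Witness.card_normalizer :
    Nat.card ↥(normalizer (W.U : Set G)) = 2 ^ 4 * 3 * 5 * 11 ^ 3 := by
  have hnc : ¬ ∀ x y : ↥W.U, x * y = y * x := fun h => by
    obtain ⟨x, hx, y, hy, hxy⟩ := W.nonab
    exact hxy (congrArg Subtype.val (h ⟨x, hx⟩ ⟨y, hy⟩))
  have hk := W.U.normalizerMonoidHom.ker.card_mul_index
  rw [index_ker, normalizerMonoidHom_ker,
    Nat.card_congr (subgroupOfEquivOfLe (centralizer_le_normalizer _)).toEquiv,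
    (W.center_facts F).2] at hk
  let R := W.U.normalizerMonoidHom.range
  let X := {p : ↥W.U × ↥W.U // p.1 * p.2 ≠ p.2 * p.1}
  letI : MulAction ↥R X :=
    { smul := fun f p => ⟨((f : MulAut ↥W.U) p.1.1, (f : MulAut ↥W.U) p.1.2), fun h => p.2
        ((f : MulAut ↥W.U).injective (by rw [map_mul, map_mul]; exact h))⟩
      one_smul := fun p => rfl
      mul_smul := fun f g p => rfl }
  have hstab : ∀ p : X, MulAction.stabilizer ↥R p = ⊥ := by
    intro p
    rw [eq_bot_iff]
    intro f hf
    rw [MulAction.mem_stabilizer_iff] at hf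
    have h1 : (f : MulAut ↥W.U) p.1.1 = p.1.1 := congrArg (fun q : X => q.1.1) hf
    have h2 : (f : MulAut ↥W.U) p.1.2 = p.1.2 := congrArg (fun q : X => q.1.2) hf
    rw [mem_bot]
    apply Subtype.ext
    show (f : MulAut ↥W.U) = 1
    have hle : Subgroup.closure ({p.1.1, p.1.2} : Set ↥W.U) ≤
        MonoidHom.eqLocus (f : MulAut ↥W.U).toMonoidHom (MonoidHom.id ↥W.U) := by
      rw [Subgroup.closure_le]
      rintro z (rfl | rfl)
      · exact h1
      · exact h2
    rw [closure_pair W.card_U p.2] at hle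
    exact MulEquiv.ext fun z => hle (mem_top z)
  have hdvd : Nat.card ↥R ∣ Nat.card X := by
    classical
    haveI : Fintype X := Fintype.ofFinite _
    rw [Nat.card_congr (MulAction.selfEquivSigmaOrbitsQuotientStabilizer ↥R X), Nat.card_sigma]
    refine Finset.dvd_sum fun ω _ => ?_
    rw [← index_eq_card, hstab, index_bot]
  rw [card_pairs W.card_U hnc] at hdvd
  have hN : Nat.card ↥(normalizer (W.U : Set G)) ∣ Nat.gcd (11 * 1597200) J4Large96.order := by
    refine Nat.dvd_gcd ?_ (F.card ▸ card_subgroup_dvd_card _)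
    rw [← hk]
    exact mul_dvd_mul_left 11 hdvd
  have hg : Nat.gcd (11 * 1597200) J4Large96.order = 2 ^ 4 * 3 * 5 * 11 ^ 3 := by
    decide +kernel
  rw [hg] at hN
  exact le_antisymm (Nat.le_of_dvd (by norm_num) hN) W.card_norm_ge

theorem Witness.isExtraspecial :
    Cfsg.IsExtraspecial 11 ↥W.U ∧ Monoid.exponent ↥W.U = 11 := by
  haveI : Fact (Nat.Prime 11) := ⟨by norm_num⟩
  have hp : IsPGroup 11 ↥W.U := IsPGroup.of_card W.card_U
  have hz := (W.center_facts F).1
  have hpow : ∀ x : ↥W.U, x ^ 11 = 1 := fun x => Subtype.ext (by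
    rw [SubgroupClass.coe_pow]; exact W.pow_U x x.2)
  have hcomm : commutator ↥W.U ≤ Subgroup.center ↥W.U := by
    have hq : Nat.card (↥W.U ⧸ Subgroup.center ↥W.U) = 11 ^ 2 := by
      have h1 := (Subgroup.center ↥W.U).card_mul_index
      rw [hz, W.card_U] at h1
      rw [← index_eq_card]
      omega
    rw [_root_.commutator_def, Subgroup.commutator_le]
    intro x _ y _
    rw [← QuotientGroup.eq_one_iff, ← QuotientGroup.mk'_apply, map_commutatorElement,
      commutatorElement_eq_one_iff_mul_comm]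
    exact IsPGroup.commutative_of_card_eq_prime_sq hq _ _
  have hcz : commutator ↥W.U = Subgroup.center ↥W.U := by
    refine eq_of_le_of_card_ge hcomm ?_
    rw [hz]
    rcases (Nat.dvd_prime (by norm_num : Nat.Prime 11)).1 (hz ▸ card_dvd_of_le hcomm) with h | h
    · exfalso
      obtain ⟨x, hx, y, hy, hxy⟩ := W.nonab
      have hm : ⁅(⟨x, hx⟩ : ↥W.U), ⟨y, hy⟩⁆ ∈ commutator ↥W.U :=
        _root_.commutator_def ↥W.U ▸ commutator_mem_commutator (mem_top _) (mem_top _)
      rw [eq_bot_of_card_eq _ h, mem_bot, commutatorElement_eq_one_iff_mul_comm] at hm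
      exact hxy (congrArg Subtype.val hm)
    · exact h.ge
  have hfr : frattini ↥W.U = Subgroup.center ↥W.U :=
    le_antisymm (PFrattini.frattini_le hcomm fun x => by rw [hpow]; exact one_mem _)
      (hcz ▸ PFrattini.commutator_le_frattini hp)
  refine ⟨⟨⟨hp, hfr, hcz⟩, hz⟩, ?_⟩
  rcases (Nat.dvd_prime (by norm_num : Nat.Prime 11)).1 (Monoid.exponent_dvd_of_forall_pow_eq_one hpow)
    with h | h
  · exfalso
    refine W.a_ne ?_
    have := Monoid.pow_exponent_eq_one (⟨W.a, W.a_mem⟩ : ↥W.U)
    rw [h, pow_one] at this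
    exact congrArg Subtype.val this
  · exact h

/-- The conclusion on Sylow eleven subgroups. -/
theorem sylow_eleven (P : Sylow 11 G) :
    Cfsg.IsExtraspecial 11 ↥(P : Subgroup G) ∧ Nat.card ↥(P : Subgroup G) = 11 ^ 3 ∧
      Monoid.exponent ↥(P : Subgroup G) = 11 ∧
      Nat.card ↥(normalizer ((P : Subgroup G) : Set G)) = 2 ^ 4 * 3 * 5 * 11 ^ 3 ∧
      ∃ K : Subgroup G, K ≤ normalizer ((P : Subgroup G) : Set G) ∧
        Nonempty (↥K ≃* GL (Fin 2) (ZMod 3)) := by
  haveI : Fact (Nat.Prime 11) := ⟨by norm_num⟩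
  obtain ⟨P₀, hP₀⟩ := W.exists_sylow F
  obtain ⟨g, hg⟩ := MulAction.exists_smul_eq G P₀ P
  have hmap : W.U.map (MulAut.conj g).toMonoidHom = (P : Subgroup G) := by
    rw [← hg, ← hP₀]; rfl
  let W' := W.map (MulAut.conj g)
  have hU : W'.U = (P : Subgroup G) := hmap
  rw [← hU]
  exact ⟨(W'.isExtraspecial F).1, W'.card_U, (W'.isExtraspecial F).2, W'.card_normalizer F, W'.gl23⟩

/-- The conclusion on classes of elements of order eleven. -/
theorem two_classes :
    ∃ x y : G, orderOf x = 11 ∧ orderOf y = 11 ∧ ¬ IsConj x y ∧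
      ∀ w : G, orderOf w = 11 → IsConj w x ∨ IsConj w y := by
  haveI : Fact (Nat.Prime 11) := ⟨by norm_num⟩
  refine ⟨W.a, W.v, orderOf_eq_prime (W.pow_U _ W.a_mem) W.a_ne,
    orderOf_eq_prime (W.pow_U _ W.v_mem) W.v_ne, W.not_conj, fun w hw => ?_⟩
  obtain ⟨P₀, hP₀⟩ := W.exists_sylow F
  obtain ⟨Q, hQ⟩ := (IsPGroup.of_card (n := 1) (by rw [Nat.card_zpowers, hw, pow_one]) :
    IsPGroup 11 ↥(zpowers w)).exists_le_sylow
  obtain ⟨g, hg⟩ := MulAction.exists_smul_eq G Q P₀
  have hmem : g * w * g⁻¹ ∈ W.U := by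
    rw [← hP₀, ← hg]
    exact ⟨w, hQ (mem_zpowers w), rfl⟩
  have hne : g * w * g⁻¹ ≠ 1 := fun h => by
    rw [conj_eq_one_iff] at h
    rw [h, orderOf_one] at hw
    omega
  have hwc : IsConj w (g * w * g⁻¹) := isConj_iff.2 ⟨g, rfl⟩
  rcases W.classes _ hmem hne with h | h
  · exact Or.inl (hwc.trans h)
  · exact Or.inr (hwc.trans h)

end Cfsg.Agent.Lib.J4Eleven90
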