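import Cfsg.Agent.Lib.J4Large96.Arith

/-!
# Interface for the Sylow eleven subgroup of a group of type J4

`Witness` is what a model of the presented group supplies; `Facts` is what the local rows supply.
-/

set_option autoImplicit false

universe u

namespace Cfsg.Agent.Lib.J4Eleven90

open Subgroup

variable (G : Type u) [Group G]

/-- An extraspecial subgroup of order `11^3` with a large normaliser. -/
structure Witness : Type u where
  U : Subgroup G
  a : G
  v : G
  card_U : Nat.card U = 11 ^ 3
  pow_U : ∀ w ∈ U, w ^ 11 = 1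
  nonab : ∃ x ∈ U, ∃ y ∈ U, x * y ≠ y * x
  a_mem : a ∈ U
  v_mem : v ∈ U
  a_ne : a ≠ 1
  v_ne : v ≠ 1
  card_norm_ge : 2 ^ 4 * 3 * 5 * 11 ^ 3 ≤ Nat.card (normalizer (U : Set G))
  gl23 : ∃ K : Subgroup G, K ≤ normalizer (U : Set G) ∧
    Nonempty (↥K ≃* GL (Fin 2) (ZMod 3))
  classes : ∀ w ∈ U, w ≠ 1 → IsConj w a ∨ IsConj w v
  not_conj : ¬ IsConj a v

/-- The order and the fact that no element of prime order other than eleven has a centraliser of order
divisible by `11^3`. -/
structure Facts : Prop where
  card : Nat.card G = J4Large96.order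
  small : ∀ (x : G) (r : ℕ), r.Prime → r ≠ 11 → orderOf x = r →
    ¬ 11 ^ 3 ∣ Nat.card (centralizer ({x} : Set G))

end Cfsg.Agent.Lib.J4Eleven90
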