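import Cfsg.Agent.Lib.J4Eleven90.Check68
import Cfsg.Agent.Lib.J4Eleven90.Spec
import Cfsg.Agent.Lib.J4Large96.Witness
import Cfsg.Agent.Lib.J4Low8.Main
import Cfsg.Agent.S1703

/-!
# The Sylow eleven subgroup of the presented group of type J4
-/

set_option autoImplicit false
set_option maxRecDepth 20000

namespace Cfsg.Agent.Lib.J4Eleven90.Model68

open Cfsg.Spor Cfsg.Agent.Lib.J4Rep72
open Cfsg.Agent.Lib.J4Low8 (eqL eq_of_eqL eqL_refl unpack)
open Cfsg.Agent.Lib.J4Eleven90.Check68
open Cfsg.Agent.Lib.J4Eleven90.ModelData68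
open Cfsg.Agent.Lib.J4Eleven90.Triples68 (Tri Rels E act dec enc)

/-- Matrices of the representation. -/
abbrev Mat : Type := Matrix (Fin 112) (Fin 112) (ZMod 2)

attribute [local irreducible] toMat matLet Check68.mat

instance : Finite J4 := Finite.of_injective _ J4Large96.rep_injective

/-- The matrix of an element. -/
noncomputable def val (g : J4) : Mat := ((rep g : Matˣ) : Mat)

theorem val_mul (g h : J4) : val (g * h) = val g * val h := by rw [val, val, val, map_mul]; rfl

theorem val_one : val 1 = 1 := by rw [val, map_one]; rfl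

theorem val_inj {g h : J4} (e : val g = val h) : g = h := J4Large96.rep_injective (Units.ext e)

theorem exists_elem : ∀ n, n < count → ∃ g : J4, val g = toMat (mat n) := by
  intro n
  induction n using Nat.strong_induction_on with
  | _ n ih =>
    intro hn
    rcases Nat.lt_or_ge n 4 with h4 | h4
    · have hb := base
      simp only [Bool.and_eq_true] at hb
      obtain ⟨⟨⟨b0, b1⟩, b2⟩, b3⟩ := hb
      have e : ∀ l, l < 4 → val (J4Large96.elem [l]) = toMat (matLet l) := by
        intro l hl
        rw [val, J4Large96.rep_elem (by simp [J4Large96.okW]; omega), (toMat_wordM len_let [l]).2]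
        simp
      interval_cases n
      · exact ⟨_, (e 0 (by omega)).trans (by rw [eq_of_eqL b0])⟩
      · exact ⟨_, (e 1 (by omega)).trans (by rw [eq_of_eqL b1])⟩
      · exact ⟨_, (e 2 (by omega)).trans (by rw [eq_of_eqL b2])⟩
      · exact ⟨_, (e 3 (by omega)).trans (by rw [eq_of_eqL b3])⟩
    obtain ⟨m, rfl⟩ : ∃ m, n = m + 4 := ⟨n - 4, by omega⟩
    have hc : count = 176 := index_check.2.2.2.2.2.2
    have hs : stepOk m = true := by
      rcases Nat.lt_or_ge m 43 with h | h
      · exact List.all_eq_true.1 steps0 m (List.mem_range'_1.2 (by omega))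
      rcases Nat.lt_or_ge m 86 with h' | h'
      · exact List.all_eq_true.1 steps1 m (List.mem_range'_1.2 (by omega))
      rcases Nat.lt_or_ge m 129 with h'' | h''
      · exact List.all_eq_true.1 steps2 m (List.mem_range'_1.2 (by omega))
      · exact List.all_eq_true.1 steps3 m (List.mem_range'_1.2 (by omega))
    simp only [stepOk, Bool.and_eq_true, Nat.ble_eq] at hs
    obtain ⟨⟨hi, hj⟩, he⟩ := hs
    obtain ⟨g, hg⟩ := ih _ (show (steps.getD m (0, 0)).1 < m + 4 by omega) (by omega)
    obtain ⟨h, hh⟩ := ih _ (show (steps.getD m (0, 0)).2 < m + 4 by omega) (by omega)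
    exact ⟨g * h, by rw [val_mul, hg, hh, ← eq_of_eqL he, toMat_mulM (Check68.len_mat _)]⟩

/-- The element of an index. -/
noncomputable def el (n : ℕ) : J4 := if h : n < count then (exists_elem n h).choose else 1

theorem val_el {n : ℕ} (h : n < count) : val (el n) = toMat (mat n) := by
  rw [el, dif_pos h]
  exact (exists_elem n h).choose_spec

/-- The product along a list of indices. -/
noncomputable def wordE (l : List ℕ) : J4 := (l.map el).prod

theorem val_wordE : ∀ {l : List ℕ}, (∀ i ∈ l, i < count) → val (wordE l) = toMat (wordM mat l)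
  | [], _ => by rw [wordE, List.map_nil, List.prod_nil, val_one, (toMat_wordM Check68.len_mat []).2]; simp
  | i :: l, h => by
    rw [wordE, List.map_cons, List.prod_cons, val_mul, val_el (h i (List.mem_cons_self ..))]
    have := val_wordE (l := l) fun j hj => h j (List.mem_cons_of_mem _ hj)
    rw [wordE] at this
    rw [this, (toMat_wordM Check68.len_mat (i :: l)).2, (toMat_wordM Check68.len_mat l).2]
    simp

theorem mat_lt (n : ℕ) : ∀ r ∈ mat n, r < 2 ^ 112 := by
  intro r hr
  unfold Check68.mat unpack at hr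
  obtain ⟨i, -, rfl⟩ := List.mem_map.1 hr
  exact Nat.mod_lt _ (by positivity)

theorem rowMul_lt : ∀ (B : List ℕ), (∀ r ∈ B, r < 2 ^ 112) → ∀ a, rowMul a B < 2 ^ 112
  | [], _, a => by simp [rowMul]
  | b :: B, hB, a => by
    have h1 := rowMul_lt B (fun r hr => hB r (List.mem_cons_of_mem _ hr)) (a / 2)
    show Bool.rec (motive := fun _ => ℕ) (rowMul (a / 2) B) (Nat.xor b (rowMul (a / 2) B))
      (Nat.beq (Nat.mod a 2) 1) < 2 ^ 112
    cases Nat.beq (Nat.mod a 2) 1
    · exact h1
    · exact Nat.xor_lt_two_pow (hB b (List.mem_cons_self ..)) h1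

theorem wordM_lt : ∀ l : List ℕ, ∀ r ∈ wordM mat l, r < 2 ^ 112
  | [], r, hr => J4Low8.oneM_lt r hr
  | i :: l, r, hr => by
    obtain ⟨s, -, rfl⟩ := List.mem_map.1 (show r ∈ (mat i).map fun a => rowMul a (wordM mat l) from hr)
    exact rowMul_lt _ (wordM_lt l) s

theorem wordE_eq {l r : List ℕ} (hl : ∀ i ∈ l, i < count) (hr : ∀ i ∈ r, i < count)
    (h : eqW l r = true) : wordE l = wordE r :=
  val_inj (by rw [val_wordE hl, val_wordE hr, eq_of_eqL h])

theorem wordE_ne {l r : List ℕ} (hl : ∀ i ∈ l, i < count) (hr : ∀ i ∈ r, i < count)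
    (h : eqW l r = false) : wordE l ≠ wordE r := by
  intro e
  have h1 := congrArg val e
  rw [val_wordE hl, val_wordE hr] at h1
  have h2 := J4Low8.toMat_inj (toMat_wordM Check68.len_mat l).1 (toMat_wordM Check68.len_mat r).1
    (wordM_lt l) (wordM_lt r) h1
  rw [eqW, h2, eqL_refl] at h
  exact Bool.noConfusion h

theorem wordE_append (l r : List ℕ) : wordE (l ++ r) = wordE l * wordE r := by
  simp [wordE, List.prod_append]

theorem wordE_replicate (n i : ℕ) : wordE (List.replicate n i) = el i ^ n := by
  simp [wordE, List.prod_replicate]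

/-- The first generator. -/
noncomputable abbrev eu : J4 := el iu
/-- The second generator. -/
noncomputable abbrev ev : J4 := el iv
/-- The central generator. -/
noncomputable abbrev ea : J4 := el ia

theorem lt_count : iu < count ∧ iv < count ∧ ia < count ∧ id5 < count ∧ ip < count ∧ iq < count :=
  ⟨index_check.1, index_check.2.1, index_check.2.2.1, index_check.2.2.2.1, index_check.2.2.2.2.1,
    index_check.2.2.2.2.2.1⟩

theorem rels : Rels eu ev ea := by
  obtain ⟨h1, h2, h3, -, -, -⟩ := lt_count
  have h := relations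
  simp only [Bool.and_eq_true] at h
  obtain ⟨⟨⟨⟨⟨⟨r1, r2⟩, r3⟩, r4⟩, r5⟩, r6⟩, -⟩ := h
  have e : ∀ {i}, i < count → eqW (List.replicate 11 i) [] = true → el i ^ 11 = 1 := by
    intro i hi he
    rw [← wordE_replicate]
    exact wordE_eq (fun j hj => List.eq_of_mem_replicate hj ▸ hi) (by simp) he
  refine ⟨e h1 r1, e h2 r2, e h3 r3, ?_, ?_, ?_⟩
  · simpa [wordE, Commute, SemiconjBy] using wordE_eq (by simp [h1, h3]) (by simp [h1, h3]) r4
  · simpa [wordE, Commute, SemiconjBy] using wordE_eq (by simp [h2, h3]) (by simp [h2, h3]) r5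
  · simpa [wordE, mul_assoc] using wordE_eq (by simp [h1, h2]) (by simp [h1, h2, h3]) r6

theorem wordT_lt (x : Tri) : ∀ i ∈ wordT x, i < count := by
  obtain ⟨h1, h2, h3, -, -, -⟩ := lt_count
  intro i hi
  simp only [wordT, List.mem_append] at hi
  rcases hi with (hi | hi) | hi <;> rw [List.eq_of_mem_replicate hi] <;> assumption

theorem wordE_wordT (x : Tri) : wordE (wordT x) = E eu ev ea x := by
  simp [wordT, wordE_append, wordE_replicate, E, mul_assoc]

theorem actor_lt (g : ℕ) : actors.getD g 0 < count := by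
  obtain ⟨h1, h2, -, h4, h5, h6⟩ := lt_count
  have h0 : 0 < count := by omega
  rcases g with _ | _ | _ | _ | _ | g <;> simp [actors, h1, h2, h4, h5, h6, h0]

theorem img_spec {g : ℕ} (hg : g < 5) :
    el (actors.getD g 0) * eu = E eu ev ea (imOf g).1 * el (actors.getD g 0) ∧
    el (actors.getD g 0) * ev = E eu ev ea (imOf g).2.1 * el (actors.getD g 0) ∧
    el (actors.getD g 0) * ea = E eu ev ea (imOf g).2.2 * el (actors.getD g 0) := by
  obtain ⟨h1, h2, h3, -, -, -⟩ := lt_count
  have hk := actor_lt g
  have h := List.all_eq_true.1 img_check g (List.mem_range.2 hg)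
  simp only [imgOk, Bool.and_eq_true] at h
  have key : ∀ {i : ℕ} {x : Tri}, i < count →
      eqW [actors.getD g 0, i] (wordT x ++ [actors.getD g 0]) = true →
      el (actors.getD g 0) * el i = E eu ev ea x * el (actors.getD g 0) := by
    intro i x hi he
    have := wordE_eq (l := [actors.getD g 0, i]) (r := wordT x ++ [actors.getD g 0])
      (fun j hj => by
        simp only [List.mem_cons, List.not_mem_nil, or_false] at hj
        rcases hj with rfl | rfl <;> assumption)
      (fun j hj => by
        rcases List.mem_append.1 hj with hj | hj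
        · exact wordT_lt x j hj
        · rw [List.mem_singleton.1 hj]; exact hk) he
    rw [wordE_append, wordE_wordT] at this
    simpa [wordE] using this
  exact ⟨key h1 h.1.1, key h2 h.1.2, key h3 h.2⟩

/-- The Sylow subgroup. -/
noncomputable abbrev Usub : Subgroup J4 := Triples68.subgroup rels

theorem actor_mem {g : ℕ} (hg : g < 5) :
    el (actors.getD g 0) ∈ Subgroup.normalizer (Usub : Set J4) :=
  Triples68.mem_normalizer rels (img_spec hg).1 (img_spec hg).2.1 (img_spec hg).2.2

theorem uv_ne : eu * ev ≠ ev * eu := by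
  obtain ⟨h1, h2, -, -, -, -⟩ := lt_count
  have h := nontrivial_check
  simp only [Bool.and_eq_true, Bool.not_eq_true'] at h
  simpa [wordE] using wordE_ne (by simp [h1, h2]) (by simp [h1, h2]) h.1.1.1

theorem node_spec : ∀ i, i < 1330 →
    IsConj (E eu ev ea (dec (node i % 1331))) ea ∨ IsConj (E eu ev ea (dec (node i % 1331))) ev := by
  intro i
  induction i using Nat.strong_induction_on with
  | _ i ih =>
    intro hi
    have h := List.all_eq_true.1 forest_check i (List.mem_range.2 hi)
    by_cases h2 : i < 2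
    · simp only [nodeOk, if_pos h2, beq_iff_eq] at h
      interval_cases i
      · left
        rw [h]
        simp [E, dec, isConj_iff]
        exact ⟨1, by simp⟩
      · right
        rw [h]
        simp [E, dec, isConj_iff]
        exact ⟨1, by simp⟩
    simp only [nodeOk, if_neg h2, Bool.and_eq_true, beq_iff_eq, Nat.blt_eq] at h
    obtain ⟨hlt, he⟩ := h
    set e := node i
    have hg : e / 1331 % 5 < 5 := Nat.mod_lt _ (by norm_num)
    obtain ⟨i1, i2, i3⟩ := img_spec hg
    have hc := Triples68.conj_E rels i1 i2 i3 (dec (node (e / 1331 / 5) % 1331))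
    have hE : E eu ev ea (dec (e % 1331)) =
        E eu ev ea (act (imOf (e / 1331 % 5)) (dec (node (e / 1331 / 5) % 1331))) := by
      rw [← he]
      obtain ⟨a1, a2, a3⟩ : (act (imOf (e / 1331 % 5)) (dec (node (e / 1331 / 5) % 1331))).1 < 11 ∧
          (act (imOf (e / 1331 % 5)) (dec (node (e / 1331 / 5) % 1331))).2.1 < 11 ∧
          (act (imOf (e / 1331 % 5)) (dec (node (e / 1331 / 5) % 1331))).2.2 < 11 :=
        ⟨Nat.mod_lt _ (by norm_num), Nat.mod_lt _ (by norm_num), Nat.mod_lt _ (by norm_num)⟩
      generalize act (imOf (e / 1331 % 5)) (dec (node (e / 1331 / 5) % 1331)) = x at a1 a2 a3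
      obtain ⟨p, q, r⟩ := x
      simp only at a1 a2 a3
      congr 1
      simp only [dec, enc]
      refine Prod.ext ?_ (Prod.ext ?_ ?_) <;> simp only <;> omega
    have hconj : IsConj (E eu ev ea (dec (node (e / 1331 / 5) % 1331))) (E eu ev ea (dec (e % 1331))) :=
      isConj_iff.2 ⟨el (actors.getD (e / 1331 % 5) 0), by rw [hE]; exact hc⟩
    rcases ih _ hlt (by omega) with hh | hh
    · exact Or.inl (hconj.symm.trans hh)
    · exact Or.inr (hconj.symm.trans hh)

theorem testBit_foldr (l : List ℕ) (f : ℕ → ℕ) (c : ℕ) :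
    (l.foldr (fun i acc => 2 ^ f i ||| acc) 0).testBit c = true → ∃ i ∈ l, f i = c := by
  induction l with
  | nil => simp
  | cons b l ih =>
    intro h
    rw [List.foldr_cons, Nat.testBit_or, Bool.or_eq_true, Nat.testBit_two_pow, decide_eq_true_eq] at h
    rcases h with h | h
    · exact ⟨b, List.mem_cons_self .., h⟩
    · obtain ⟨i, hi, e⟩ := ih h
      exact ⟨i, List.mem_cons_of_mem _ hi, e⟩

theorem classes : ∀ w ∈ Usub, w ≠ 1 → IsConj w ea ∨ IsConj w ev := by
  rintro w ⟨x, rfl⟩ hw
  obtain ⟨c, hc, e⟩ := Triples68.exists_dec rels x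
  have hc0 : c ≠ 0 := by
    intro h0
    apply hw
    rw [← e, h0]
    simp [E, dec]
  have hb : seen.testBit c = true := by
    rw [seen_check]
    have : (2 : ℕ) ^ 1331 - 2 = 2 ^ 1331 - (1 + 1) := rfl
    rw [this, Nat.testBit_two_pow_sub_succ (Nat.one_lt_two_pow (by norm_num)), decide_eq_true hc,
      Bool.true_and, Bool.not_eq_true', show (1 : ℕ) = 2 ^ 0 from rfl, Nat.testBit_two_pow]
    exact decide_eq_false (fun h => hc0 h.symm)
  obtain ⟨i, hi, rfl⟩ := testBit_foldr _ _ _ (show ((List.range 1330).foldr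
    (fun i acc => 2 ^ (node i % 1331) ||| acc) 0).testBit c = true from hb)
  rw [← e]
  exact node_spec i (List.mem_range.1 hi)

theorem code_facts : ∀ a b c d : ZMod 3,
    ((a * d - b * c ≠ 0 → (a.val * d.val + 2 * b.val * c.val) % 3 ≠ 0) ∧
    timesP (codeN a.val b.val c.val d.val) = codeN a.val (a + b).val c.val (c + d).val ∧
    timesQ (codeN a.val b.val c.val d.val) = codeN b.val (a + b).val d.val (c + d).val ∧
    codeN a.val b.val c.val d.val / 27 = a.val ∧ codeN a.val b.val c.val d.val / 9 % 3 = b.val ∧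
    codeN a.val b.val c.val d.val / 3 % 3 = c.val ∧ codeN a.val b.val c.val d.val % 3 = d.val ∧
    codeN a.val b.val c.val d.val < 81) := by decide +kernel

/-- The linear group. -/
abbrev GL3 : Type := GL (Fin 2) (ZMod 3)

/-- The code of an invertible matrix. -/
def code (g : GL3) : ℕ :=
  codeN ((g : Matrix (Fin 2) (Fin 2) (ZMod 3)) 0 0).val ((g : Matrix (Fin 2) (Fin 2) (ZMod 3)) 0 1).val
    ((g : Matrix (Fin 2) (Fin 2) (ZMod 3)) 1 0).val ((g : Matrix (Fin 2) (Fin 2) (ZMod 3)) 1 1).val

theorem code_injective : Function.Injective code := by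
  intro g g' h
  apply Units.ext
  set M := (g : Matrix (Fin 2) (Fin 2) (ZMod 3))
  set M' := (g' : Matrix (Fin 2) (Fin 2) (ZMod 3))
  obtain ⟨-, -, -, a1, a2, a3, a4, -⟩ := code_facts (M 0 0) (M 0 1) (M 1 0) (M 1 1)
  obtain ⟨-, -, -, b1, b2, b3, b4, -⟩ := code_facts (M' 0 0) (M' 0 1) (M' 1 0) (M' 1 1)
  have h' : codeN (M 0 0).val (M 0 1).val (M 1 0).val (M 1 1).val =
      codeN (M' 0 0).val (M' 0 1).val (M' 1 0).val (M' 1 1).val := h
  ext i j
  fin_cases i <;> fin_cases j <;> apply ZMod.val_injective
  · exact (a1.symm.trans (congrArg (· / 27) h')).trans b1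
  · exact (a2.symm.trans (congrArg (fun n => n / 9 % 3) h')).trans b2
  · exact (a3.symm.trans (congrArg (fun n => n / 3 % 3) h')).trans b3
  · exact (a4.symm.trans (congrArg (· % 3) h')).trans b4

/-- The first generator of the linear group. -/
def gP : GL3 := ⟨!![1, 1; 0, 1], !![1, 2; 0, 1], by decide, by decide⟩
/-- The second generator of the linear group. -/
def gQ : GL3 := ⟨!![0, 1; 1, 1], !![2, 1; 1, 0], by decide, by decide⟩

theorem code_mul (g : GL3) : code (g * gP) = timesP (code g) ∧ code (g * gQ) = timesQ (code g) := by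
  set M := (g : Matrix (Fin 2) (Fin 2) (ZMod 3)) with hM
  obtain ⟨-, hp, hq, -⟩ := code_facts (M 0 0) (M 0 1) (M 1 0) (M 1 1)
  constructor
  · refine Eq.trans ?_ hp.symm
    simp [code, gP, ← hM, Matrix.mul_apply, Fin.sum_univ_two, add_comm]
  · refine Eq.trans ?_ hq.symm
    simp [code, gQ, ← hM, Matrix.mul_apply, Fin.sum_univ_two, add_comm]

theorem code_one : code 1 = 28 := by decide +kernel

/-- The value of a word of generators. -/
def glWord (w : List Bool) : GL3 := w.foldl (fun g b => if b then g * gQ else g * gP) 1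

theorem code_glWord (w : List Bool) : code (glWord w) = evalW w := by
  induction w using List.reverseRecOn with
  | nil => simpa [glWord, evalW] using code_one
  | append_singleton w b ih =>
    simp only [glWord, evalW, List.foldl_append, List.foldl_cons, List.foldl_nil] at ih ⊢
    cases b
    · simp [(code_mul _).1, ih]
    · simp [(code_mul _).2, ih]

theorem tab_spec (g : GL3) : tabOk (code g) = true ∧
    ¬ (code g / 27 * (code g % 3) + 2 * (code g / 9 % 3) * (code g / 3 % 3)) % 3 = 0 := by
  set M := (g : Matrix (Fin 2) (Fin 2) (ZMod 3)) with hM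
  obtain ⟨hd, -, -, a1, a2, a3, a4, hlt⟩ := code_facts (M 0 0) (M 0 1) (M 1 0) (M 1 1)
  have hdet : M 0 0 * M 1 1 - M 0 1 * M 1 0 ≠ 0 := by
    rw [← Matrix.det_fin_two, hM]
    exact (Matrix.GeneralLinearGroup.det g).ne_zero
  refine ⟨?_, ?_⟩
  · have h81 : code g < 81 := hlt
    rcases Nat.lt_or_ge (code g) 27 with h | h
    · exact List.all_eq_true.1 tab0 _ (List.mem_range'_1.2 (by omega))
    rcases Nat.lt_or_ge (code g) 54 with h' | h'
    · exact List.all_eq_true.1 tab1 _ (List.mem_range'_1.2 (by omega))
    · exact List.all_eq_true.1 tab2 _ (List.mem_range'_1.2 (by omega))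
  · show ¬ (codeN _ _ _ _ / 27 * _ + 2 * _ * _) % 3 = 0
    rw [code, ← hM, a1, a2, a3, a4]
    exact hd hdet

theorem tabW_lt (g : GL3) : ∀ i ∈ tabW (code g), i < count := by
  intro i hi
  have h81 : code g < 81 := (code_facts _ _ _ _).2.2.2.2.2.2.2
  exact Nat.le_of_ble_eq_true (List.all_eq_true.1 (List.all_eq_true.1 tab_range _ (List.mem_range.2 h81)) i hi)

/-- The map on the linear group. -/
noncomputable def glMap (g : GL3) : J4 := wordE (tabW (code g))

theorem glMap_step (g : GL3) : glMap (g * gP) = glMap g * el ip ∧ glMap (g * gQ) = glMap g * el iq ∧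
    (g ≠ 1 → glMap g ≠ 1) ∧ code (glWord (glw.getD (code g) [])) = code g := by
  obtain ⟨-, -, -, -, h5, h6⟩ := lt_count
  obtain ⟨ht, hd⟩ := tab_spec g
  simp only [tabOk, if_neg hd, Bool.and_eq_true, beq_iff_eq, Bool.or_eq_true, Bool.not_eq_true'] at ht
  obtain ⟨⟨⟨he, hP⟩, hQ⟩, hne⟩ := ht
  have happ : ∀ {i}, i < count → ∀ j ∈ tabW (code g) ++ [i], j < count := fun hi j hj => by
    rcases List.mem_append.1 hj with hj | hj
    · exact tabW_lt g j hj
    · rw [List.mem_singleton.1 hj]; exact hi
  refine ⟨?_, ?_, fun hg => ?_, by rw [code_glWord, he]⟩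
  · have := wordE_eq (happ h5) (by rw [← (code_mul g).1]; exact tabW_lt _) hP
    rw [wordE_append, ← (code_mul g).1] at this
    simpa [glMap, wordE] using this.symm
  · have := wordE_eq (happ h6) (by rw [← (code_mul g).2]; exact tabW_lt _) hQ
    rw [wordE_append, ← (code_mul g).2] at this
    simpa [glMap, wordE] using this.symm
  · rcases hne with h | h
    · exact absurd (code_injective (h.trans code_one.symm)) hg
    · simpa [glMap, wordE] using wordE_ne (tabW_lt g) (by simp) h

theorem glMap_one : glMap 1 = 1 := by rw [glMap, code_one, tab_one]; simp [wordE]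

theorem closure_gens : Subgroup.closure ({gP, gQ} : Set GL3) = ⊤ := by
  rw [eq_top_iff]
  intro g _
  have h := code_injective (glMap_step g).2.2.2
  rw [← h]
  induction glw.getD (code g) [] using List.reverseRecOn with
  | nil => exact one_mem _
  | append_singleton w b ih =>
    simp only [glWord, List.foldl_append, List.foldl_cons, List.foldl_nil] at ih ⊢
    cases b
    · exact mul_mem ih (Subgroup.subset_closure (by simp))
    · exact mul_mem ih (Subgroup.subset_closure (by simp))

theorem glMap_mul (g h : GL3) : glMap (g * h) = glMap g * glMap h := by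
  have hh : h ∈ Subgroup.closure ({gP, gQ} : Set GL3) := by rw [closure_gens]; trivial
  have eP : glMap gP = el ip := by simpa [glMap_one] using (glMap_step 1).1
  have eQ : glMap gQ = el iq := by simpa [glMap_one] using (glMap_step 1).2.1
  induction hh using Subgroup.closure_induction_right generalizing g with
  | one => simp [glMap_one]
  | mul_right x hx y hy ih =>
    rcases hy with rfl | rfl
    · rw [← mul_assoc, (glMap_step (g * x)).1, ih, (glMap_step x).1, mul_assoc]
    · rw [← mul_assoc, (glMap_step (g * x)).2.1, ih, (glMap_step x).2.1, mul_assoc]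
  | mul_inv_cancel x hx y hy ih =>
    have key : glMap (g * x) = glMap (g * (x * y⁻¹)) * glMap y ∧ glMap x = glMap (x * y⁻¹) * glMap y := by
      rcases hy with rfl | rfl
      · rw [eP, ← (glMap_step _).1, ← (glMap_step _).1]
        simp [mul_assoc]
      · rw [eQ, ← (glMap_step _).2.1, ← (glMap_step _).2.1]
        simp [mul_assoc]
    have := ih g
    rw [key.1, key.2] at this
    simp only [← mul_assoc] at this ⊢
    exact (mul_left_inj (glMap y)).1 this

/-- The embedding of the linear group. -/
noncomputable def glHom : GL3 →* J4 :=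
  { toFun := glMap, map_one' := glMap_one, map_mul' := glMap_mul }

theorem glHom_injective : Function.Injective glHom :=
  (injective_iff_map_eq_one _).2 fun g hg => by_contra fun h => (glMap_step g).2.2.1 h hg

theorem range_le : glHom.range ≤ Subgroup.normalizer (Usub : Set J4) := by
  rw [MonoidHom.range_eq_map, ← closure_gens, MonoidHom.map_closure, Subgroup.closure_le]
  rintro _ ⟨g, hg, rfl⟩
  rcases hg with rfl | rfl
  · show glMap gP ∈ _
    rw [show glMap gP = el ip by simpa [glMap_one] using (glMap_step 1).1]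
    exact actor_mem (g := 3) (by norm_num)
  · show glMap gQ ∈ _
    rw [show glMap gQ = el iq by simpa [glMap_one] using (glMap_step 1).2.1]
    exact actor_mem (g := 4) (by norm_num)

theorem orderOf_d : orderOf (el id5) = 5 := by
  obtain ⟨-, -, -, h4, -, -⟩ := lt_count
  have h := relations
  simp only [Bool.and_eq_true] at h
  have h5 : el id5 ^ 5 = 1 := by
    rw [← wordE_replicate]
    exact wordE_eq (fun j hj => List.eq_of_mem_replicate hj ▸ h4) (by simp) h.2
  have hn := nontrivial_check
  simp only [Bool.and_eq_true, Bool.not_eq_true'] at hn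
  have h1 : el id5 ≠ 1 := by simpa [wordE] using wordE_ne (by simp [h4]) (by simp) hn.2
  haveI : Fact (Nat.Prime 5) := ⟨by norm_num⟩
  exact orderOf_eq_prime h5 h1

theorem card_norm_ge :
    2 ^ 4 * 3 * 5 * 11 ^ 3 ≤ Nat.card (Subgroup.normalizer (Usub : Set J4)) := by
  set N := Subgroup.normalizer (Usub : Set J4)
  have hU : 11 ^ 3 ∣ Nat.card N := by
    rw [← Triples68.card_subgroup rels uv_ne]
    exact Subgroup.card_dvd_of_le Subgroup.le_normalizer
  have hK : 48 ∣ Nat.card N := by
    have h := Subgroup.card_dvd_of_le range_le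
    have e : Nat.card glHom.range = Nat.card GL3 :=
      (Nat.card_congr (MonoidHom.ofInjective glHom_injective).toEquiv).symm
    rw [e, Matrix.card_GL_field] at h
    simpa [Fin.prod_univ_two] using h
  have h5 : 5 ∣ Nat.card N := by
    rw [← orderOf_d]
    exact (Nat.card_zpowers (el id5)) ▸
      Subgroup.card_dvd_of_le (Subgroup.zpowers_le.2 (actor_mem (g := 2) (by norm_num)))
  refine Nat.le_of_dvd Nat.card_pos ?_
  have := Nat.Coprime.mul_dvd_of_dvd_of_dvd (by norm_num : Nat.Coprime (48 * 5) (11 ^ 3))
    (Nat.Coprime.mul_dvd_of_dvd_of_dvd (by norm_num) hK h5) hU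
  simpa using this

theorem toMat_subOne {A : List ℕ} : toMat (subOne A) = toMat A + 1 := by
  ext i j
  rw [Matrix.add_apply]
  unfold toMat
  simp only [subOne]
  rw [List.getD_eq_getElem _ _ (by simp [i.isLt]), List.getElem_map, List.getElem_range]
  show bitZ ((A.getD i 0 ^^^ 2 ^ (i : ℕ)).testBit j) = _
  rw [Nat.testBit_xor, bitZ_xor, Nat.testBit_two_pow, Matrix.one_apply]
  by_cases h : i = j
  · simp [h, bitZ]
  · simp [h, bitZ, Fin.val_ne_of_ne h]

theorem toMat_firstM (r : ℕ) :
    toMat (firstM r) = Matrix.diagonal fun i : Fin 112 => if (i : ℕ) < r then (1 : ZMod 2) else 0 := by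
  unfold toMat
  ext i j
  rw [List.getD_eq_getElem _ _ (by simp [firstM, i.isLt])]
  simp only [firstM, List.getElem_map, List.getElem_range, Matrix.diagonal_apply]
  by_cases hr : (i : ℕ) < r
  · rw [if_pos hr, Nat.testBit_two_pow]
    by_cases h : i = j
    · simp [h, bitZ, h ▸ hr]
    · simp [h, bitZ, Fin.val_ne_of_ne h]
  · rw [if_neg hr]
    by_cases h : i = j
    · subst h; simp [hr, bitZ]
    · simp [h, bitZ]

theorem len_unpack (n : ℕ) : (unpack n).length = 112 := by simp [unpack]

theorem not_conj : ¬ IsConj ea ev := by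
  obtain ⟨-, h2, h3, -, -, -⟩ := lt_count
  intro hc
  obtain ⟨g, hg⟩ := isConj_iff.1 hc
  have hA := congrArg toMat (eq_of_eqL rank_a)
  have hV := congrArg toMat (eq_of_eqL rank_v)
  have l1 : (subOne (mat ia)).length = 112 := by simp [subOne]
  have l2 : (firstM 100).length = 112 := by simp [firstM]
  rw [toMat_mulM (len_unpack _), toMat_mulM l1, toMat_subOne, ← val_el h3] at hA
  rw [toMat_mulM (len_unpack _), toMat_mulM l2, toMat_subOne, ← val_el h2] at hV
  have hgg : val g * val g⁻¹ = 1 := by rw [← val_mul, mul_inv_cancel, val_one]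
  have hgi : val g⁻¹ * val g = 1 := by rw [← val_mul, inv_mul_cancel, val_one]
  have hconj : val ea + 1 = val g⁻¹ * (val ev + 1) * val g := by
    rw [mul_add, add_mul, mul_one, hgi, ← hg, val_mul, val_mul, ← mul_assoc, ← mul_assoc, hgi,
      one_mul, mul_assoc, hgi, mul_one]
  rw [hconj, ← hV] at hA
  have hr := congrArg Matrix.rank hA
  have hle : ∀ A B C D : Mat, (A * (B * toMat (firstM 100) * C) * D).rank ≤ (toMat (firstM 100)).rank :=
    fun A B C D => (Matrix.rank_mul_le_left _ _).trans ((Matrix.rank_mul_le_right _ _).trans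
      ((Matrix.rank_mul_le_left _ _).trans (Matrix.rank_mul_le_right _ _)))
  have h' : (toMat (firstM 110)).rank ≤ (toMat (firstM 100)).rank := by
    rw [← hr]
    refine le_trans (le_of_eq ?_) (hle (toMat (unpack leftA) * val g⁻¹) (toMat (unpack leftV))
      (toMat (unpack rightV)) (val g * toMat (unpack rightA)))
    exact congrArg Matrix.rank (by simp only [Matrix.mul_assoc])
  rw [toMat_firstM, toMat_firstM, Matrix.rank_diagonal, Matrix.rank_diagonal] at h'
  revert h'
  decide

/-- **The model half.** -/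
theorem witness : Nonempty (Witness J4) := by
  obtain ⟨h1, h2, h3, -, -, -⟩ := lt_count
  have hn := nontrivial_check
  simp only [Bool.and_eq_true, Bool.not_eq_true'] at hn
  exact ⟨{ U := Usub, a := ea, v := ev
           card_U := Triples68.card_subgroup rels uv_ne
           pow_U := fun w hw => Triples68.pow_mem_eleven rels hw
           nonab := ⟨eu, Triples68.u_mem rels, ev, Triples68.v_mem rels, uv_ne⟩
           a_mem := Triples68.a_mem rels
           v_mem := Triples68.v_mem rels
           a_ne := by simpa [wordE] using wordE_ne (by simp [h3]) (by simp) hn.1.1.2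
           v_ne := by simpa [wordE] using wordE_ne (by simp [h2]) (by simp) hn.1.2
           card_norm_ge := card_norm_ge
           gl23 := ⟨glHom.range, range_le, ⟨(MonoidHom.ofInjective glHom_injective).symm⟩⟩
           classes := classes
           not_conj := not_conj }⟩

end Cfsg.Agent.Lib.J4Eleven90.Model68

namespace Cfsg.Agent.Lib.J4Eleven90

/-- The presented group of type J4 has a witness. -/
theorem witness_model : Nonempty (Witness Cfsg.Spor.J4) := Model68.witness

end Cfsg.Agent.Lib.J4Eleven90
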